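import Groth.Agent.NodePtLib.Compl
import Groth.Agent.WildQuotLib.PSReg
import Groth.Agent.RegLocal.Completion
import Groth.Agent.JacLocusLib.Alg

/-!
# A local ring whose completion is `Λ[[x, y]]/(xy - u)`

Away from `u` the differentials over `Λ` need one generator, and the reduction modulo the maximal
ideal of `Λ` has no socle.
-/

set_option autoImplicit false
set_option backward.isDefEq.respectTransparency false

universe u

open IsLocalRing

noncomputable section

namespace Groth.Agent.NodeSmoothOffLib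

/-- The model. -/
abbrev Node (Λ : Type u) [CommRing Λ] (u : Λ) :=
  MvPowerSeries (Fin 2) Λ ⧸ Ideal.span {MvPowerSeries.X 0 * MvPowerSeries.X 1 - MvPowerSeries.C u}

section PS

variable {Λ : Type u} [CommRing Λ]

theorem sub_C_mem (F : MvPowerSeries (Fin 2) Λ) : ∃ G₀ G₁ : MvPowerSeries (Fin 2) Λ,
    F - MvPowerSeries.C (MvPowerSeries.constantCoeff F) = G₀ * MvPowerSeries.X 0 + G₁ * MvPowerSeries.X 1 := by
  have h : F - MvPowerSeries.C (MvPowerSeries.constantCoeff F) ∈
      Ideal.span (Set.range (MvPowerSeries.X : Fin 2 → MvPowerSeries (Fin 2) Λ)) := by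
    rw [← WildQuotLib.ker_constantCoeff_eq Λ 2]
    simp [RingHom.mem_ker]
  rw [show Set.range (MvPowerSeries.X : Fin 2 → MvPowerSeries (Fin 2) Λ) = {MvPowerSeries.X 0, MvPowerSeries.X 1}
    from Set.ext fun z => by simp [Fin.exists_fin_two, eq_comm], Ideal.mem_span_pair] at h
  obtain ⟨a, b, h⟩ := h
  exact ⟨a, b, h.symm⟩

/-- Truncation. -/
theorem exists_poly (n : ℕ) : ∀ F : MvPowerSeries (Fin 2) Λ, ∃ P : MvPolynomial (Fin 2) Λ,
    F - (P : MvPowerSeries (Fin 2) Λ) ∈
      (Ideal.span {MvPowerSeries.X 0, MvPowerSeries.X 1} : Ideal (MvPowerSeries (Fin 2) Λ)) ^ n := by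
  induction n with
  | zero => intro F; exact ⟨0, by simp⟩
  | succ n ih =>
    intro F
    obtain ⟨G₀, G₁, h⟩ := sub_C_mem F
    obtain ⟨P₀, h₀⟩ := ih G₀
    obtain ⟨P₁, h₁⟩ := ih G₁
    refine ⟨MvPolynomial.C (MvPowerSeries.constantCoeff F) + P₀ * MvPolynomial.X 0 + P₁ * MvPolynomial.X 1, ?_⟩
    have e : F - ((MvPolynomial.C (MvPowerSeries.constantCoeff F) + P₀ * MvPolynomial.X 0 + P₁ * MvPolynomial.X 1 :
        MvPolynomial (Fin 2) Λ) : MvPowerSeries (Fin 2) Λ) =
        (G₀ - (P₀ : MvPowerSeries (Fin 2) Λ)) * MvPowerSeries.X 0 +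
          (G₁ - (P₁ : MvPowerSeries (Fin 2) Λ)) * MvPowerSeries.X 1 := by
      simp only [MvPolynomial.coe_add, MvPolynomial.coe_mul, MvPolynomial.coe_C, MvPolynomial.coe_X]
      linear_combination h
    rw [e, pow_succ]
    exact add_mem (Ideal.mul_mem_mul h₀ (Ideal.subset_span (by simp)))
      (Ideal.mul_mem_mul h₁ (Ideal.subset_span (by simp)))

/-- Series with coefficients in a finitely generated ideal. -/
theorem mem_map_C {J : Ideal Λ} (hJ : J.FG) (F : MvPowerSeries (Fin 2) Λ)
    (h : ∀ d, MvPowerSeries.coeff d F ∈ J) : F ∈ J.map (MvPowerSeries.C (σ := Fin 2) (R := Λ)) := by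
  classical
  obtain ⟨r, g, hg⟩ := Submodule.fg_iff_exists_fin_generating_family.1 hJ
  have hc : ∀ d, ∃ c : Fin r → Λ, ∑ i, c i • g i = MvPowerSeries.coeff d F := fun d =>
    (Submodule.mem_span_range_iff_exists_fun Λ).1 (hg.symm ▸ h d)
  choose c hc using hc
  let H : Fin r → MvPowerSeries (Fin 2) Λ := fun i d => c d i
  have e : F = ∑ i, MvPowerSeries.C (g i) * H i := by
    ext d
    rw [map_sum, ← hc d]
    refine Finset.sum_congr rfl fun i _ => ?_
    rw [MvPowerSeries.coeff_C_mul, smul_eq_mul, mul_comm]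
    rfl
  rw [e]
  exact Ideal.sum_mem _ fun i _ => Ideal.mul_mem_right _ _
    (Ideal.mem_map_of_mem _ (hg ▸ Submodule.subset_span ⟨i, rfl⟩))

/-- The model of a node over a field has no socle. -/
theorem socle_zero {k : Type u} [Field k] {F : MvPowerSeries (Fin 2) k}
    (h₀ : (MvPowerSeries.X 0 * MvPowerSeries.X 1 : MvPowerSeries (Fin 2) k) ∣ MvPowerSeries.X 0 * F)
    (h₁ : (MvPowerSeries.X 0 * MvPowerSeries.X 1 : MvPowerSeries (Fin 2) k) ∣ MvPowerSeries.X 1 * F) :
    (MvPowerSeries.X 0 * MvPowerSeries.X 1 : MvPowerSeries (Fin 2) k) ∣ F := by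
  classical
  have hX : ∀ i : Fin 2, (MvPowerSeries.X i : MvPowerSeries (Fin 2) k) ≠ 0 := fun i h => by
    have := congrArg (MvPowerSeries.coeff (Finsupp.single i 1)) h
    simp [MvPowerSeries.coeff_X] at this
  obtain ⟨g, hg⟩ := h₀
  rw [mul_assoc] at hg
  have hg' : F = MvPowerSeries.X 1 * g := mul_left_cancel₀ (hX 0) hg
  obtain ⟨h, hh⟩ := h₁
  have hh' : F = MvPowerSeries.X 0 * h := mul_left_cancel₀ (hX 1) (hh.trans (by ring))
  have : (MvPowerSeries.X 0 : MvPowerSeries (Fin 2) k) ∣ g := by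
    rw [MvPowerSeries.X_dvd_iff]
    intro m hm
    have h1 : MvPowerSeries.coeff (Finsupp.single 1 1 + m) F = MvPowerSeries.coeff m g := by
      rw [hg', MvPowerSeries.X, MvPowerSeries.coeff_add_monomial_mul, one_mul]
    have h2 : (MvPowerSeries.X 0 : MvPowerSeries (Fin 2) k) ∣ F := ⟨h, hh'⟩
    rw [MvPowerSeries.X_dvd_iff] at h2
    rw [← h1]
    exact h2 _ (by simp [hm])
  rw [hg', mul_comm (MvPowerSeries.X 0)]
  exact mul_dvd_mul_left _ this

end PS

section Main

variable {Λ : Type u} [CommRing Λ] {O : Type u} [CommRing O] [IsLocalRing O] [IsNoetherianRing O] [Algebra Λ O]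
  {u : Λ} (e : AdicCompletion (maximalIdeal O) O ≃+* Node Λ u)
  (he : ∀ c : Λ, e (algebraMap O _ (algebraMap Λ O c)) = Ideal.Quotient.mk _ (MvPowerSeries.C c))
  (hu : ¬ IsUnit u)

local notation "Oh" => AdicCompletion (maximalIdeal O) O

include hu in
theorem symm_X_mem (i : Fin 2) :
    e.symm (Ideal.Quotient.mk _ (MvPowerSeries.X i)) ∈ maximalIdeal Oh := by
  rw [mem_maximalIdeal, mem_nonunits_iff]
  intro h
  have h1 := h.map e
  rw [RingEquiv.apply_symm_apply, isUnit_iff_exists_inv] at h1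
  obtain ⟨G, hG⟩ := h1
  obtain ⟨G, rfl⟩ := Ideal.Quotient.mk_surjective G
  rw [← map_mul, ← map_one (Ideal.Quotient.mk _), Ideal.Quotient.eq, Ideal.mem_span_singleton] at hG
  obtain ⟨H, hH⟩ := hG
  have h2 := congrArg MvPowerSeries.constantCoeff hH
  simp only [map_sub, map_mul, map_one, MvPowerSeries.constantCoeff_X, MvPowerSeries.constantCoeff_C,
    zero_mul, zero_sub, neg_mul, neg_inj] at h2
  exact hu (IsUnit.of_mul_eq_one _ h2.symm)

include he hu in
/-- Coordinates to any order. -/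
theorem exists_approx (n : ℕ) : ∃ a b : O, a ∈ maximalIdeal O ∧ b ∈ maximalIdeal O ∧
    a * b - algebraMap Λ O u ∈ maximalIdeal O ^ (n + 1) ∧
    ∀ z : O, ∃ P : MvPolynomial (Fin 2) Λ,
      z - MvPolynomial.aeval ![a, b] P ∈ maximalIdeal O ^ (n + 1) := by
  classical
  obtain ⟨M, hM⟩ : ∃ M : Ideal Oh, M = maximalIdeal Oh ^ (n + 1) := ⟨_, rfl⟩
  let x : Fin 2 → Oh := fun i => e.symm (Ideal.Quotient.mk _ (MvPowerSeries.X i))
  obtain ⟨a, ha⟩ := NodePtLib.exists_sub_mem O (n + 1) (x 0)
  obtain ⟨b, hb⟩ := NodePtLib.exists_sub_mem O (n + 1) (x 1)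
  rw [← hM] at ha hb
  let ι : O →+* Oh ⧸ M := (Ideal.Quotient.mk M).comp (algebraMap O Oh)
  let q : MvPowerSeries (Fin 2) Λ →+* Oh ⧸ M :=
    ((Ideal.Quotient.mk M).comp e.symm.toRingHom).comp (Ideal.Quotient.mk _)
  have hX : ∀ i, q (MvPowerSeries.X i) = ι (![a, b] i) := fun i => by
    fin_cases i
    · exact Ideal.Quotient.eq.2 ha
    · exact Ideal.Quotient.eq.2 hb
  have hC : ∀ c, q (MvPowerSeries.C c) = ι (algebraMap Λ O c) := fun c => by
    show Ideal.Quotient.mk M (e.symm (Ideal.Quotient.mk _ (MvPowerSeries.C c))) = _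
    rw [← he, RingEquiv.symm_apply_apply]
    rfl
  have hP : ∀ P : MvPolynomial (Fin 2) Λ,
      q (P : MvPowerSeries (Fin 2) Λ) = ι (MvPolynomial.aeval ![a, b] P) := fun P => by
    induction P using MvPolynomial.induction_on with
    | C c => rw [MvPolynomial.coe_C, MvPolynomial.aeval_C, hC]
    | add p q' hp hq => rw [MvPolynomial.coe_add, map_add, map_add, map_add, hp, hq]
    | mul_X p i hp => rw [MvPolynomial.coe_mul, MvPolynomial.coe_X, map_mul, map_mul, map_mul, hp, hX,
        MvPolynomial.aeval_X]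
  have key : ∀ z : O, ι z = 0 → z ∈ maximalIdeal O ^ (n + 1) := fun z hz => by
    rw [RingHom.comp_apply, Ideal.Quotient.eq_zero_iff_mem, hM, NodePtLib.mem_pow_iff] at hz
    exact hz
  have hmem : ∀ i, ![a, b] i ∈ maximalIdeal O := fun i => by
    have h1 : algebraMap O Oh (![a, b] i) - x i ∈ M := by
      fin_cases i
      · simpa using M.neg_mem ha
      · simpa using M.neg_mem hb
    rw [hM] at h1
    have h2 := add_mem (Ideal.pow_le_self n.succ_ne_zero h1) (symm_X_mem e hu i)
    rw [sub_add_cancel] at h2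
    simpa [NodePtLib.mem_pow_iff] using (show algebraMap O Oh (![a, b] i) ∈ maximalIdeal Oh ^ 1 by rwa [pow_one])
  refine ⟨a, b, hmem 0, hmem 1, key _ ?_, fun z => ?_⟩
  · have h := hX 0
    have h' := hX 1
    rw [map_sub, map_mul, show ι a = q (MvPowerSeries.X 0) from h.symm,
      show ι b = q (MvPowerSeries.X 1) from h'.symm, ← hC, ← map_mul, ← map_sub]
    show Ideal.Quotient.mk M (e.symm (Ideal.Quotient.mk _
      (MvPowerSeries.X 0 * MvPowerSeries.X 1 - MvPowerSeries.C u))) = 0
    rw [Ideal.Quotient.eq_zero_iff_mem.2 (Ideal.mem_span_singleton_self _), map_zero, map_zero]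
  · obtain ⟨F, hF⟩ := Ideal.Quotient.mk_surjective (e (algebraMap O Oh z))
    obtain ⟨P, hPF⟩ := exists_poly (n + 1) F
    refine ⟨P, key _ ?_⟩
    have hz : ι z = q F := by
      show Ideal.Quotient.mk M _ = Ideal.Quotient.mk M (e.symm (Ideal.Quotient.mk _ F))
      rw [hF, RingEquiv.symm_apply_apply]
    have hle : (Ideal.span {MvPowerSeries.X 0, MvPowerSeries.X 1} : Ideal (MvPowerSeries (Fin 2) Λ)) ^ (n + 1) ≤
        M.comap (e.symm.toRingHom.comp (Ideal.Quotient.mk _)) := by
      rw [hM]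
      refine le_trans (Ideal.pow_right_mono ?_ _) (Ideal.le_comap_pow _ _)
      rw [Ideal.span_le]
      rintro _ (rfl | rfl)
      exacts [symm_X_mem e hu 0, symm_X_mem e hu 1]
    rw [map_sub, hz, ← hP, ← map_sub]
    exact Ideal.Quotient.eq_zero_iff_mem.2 (hle hPF)

omit [IsNoetherianRing O] in
theorem D_mem_pow (n : ℕ) : ∀ a ∈ maximalIdeal O ^ (n + 1),
    KaehlerDifferential.D Λ O a ∈ (maximalIdeal O ^ n) • (⊤ : Submodule O Ω[O⁄Λ]) := by
  induction n with
  | zero => intro a _; simp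
  | succ n ih =>
    intro a ha
    rw [pow_succ] at ha
    induction ha using Submodule.mul_induction_on' with
    | mem_mul_mem p hp q hq =>
      rw [Derivation.leibniz]
      refine add_mem (Submodule.smul_mem_smul hp Submodule.mem_top) ?_
      rw [pow_succ', Submodule.mul_smul]
      exact Submodule.smul_mem_smul hq (ih p hp)
    | add p _ q _ hp hq => rw [map_add]; exact add_mem hp hq

include e he hu in
/-- One generator of the differentials at a prime avoiding `u`. -/
theorem exists_span_one [Module.Finite O Ω[O⁄Λ]] (Q : Ideal O) [Q.IsPrime] (huQ : algebraMap Λ O u ∉ Q)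
    {T : Type u} [CommRing T] [Algebra O T] [IsLocalization.AtPrime T Q] [Algebra Λ T] [IsScalarTower Λ O T] :
    ∃ v : Fin 1 → Ω[T⁄Λ], Submodule.span T (Set.range v) = ⊤ := by
  classical
  obtain ⟨n, hn0, hn⟩ : ∃ n, 1 ≤ n ∧ algebraMap Λ O u ∉ Q ⊔ maximalIdeal O ^ n := by
    by_contra hcon
    push Not at hcon
    have hne : (maximalIdeal O).map (Ideal.Quotient.mk Q) ≠ ⊤ := fun h => by
      have h1 := congrArg (Ideal.comap (Ideal.Quotient.mk Q)) h
      rw [Ideal.comap_map_quotientMk, Ideal.comap_top, sup_eq_right.2 (le_maximalIdeal Ideal.IsPrime.ne_top')] at h1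
      exact (maximalIdeal.isMaximal O).ne_top h1
    haveI : Nontrivial (O ⧸ Q) := Ideal.Quotient.nontrivial_iff.2 Ideal.IsPrime.ne_top'
    haveI : IsLocalRing (O ⧸ Q) := IsLocalRing.of_surjective' _ Ideal.Quotient.mk_surjective
    apply huQ
    rw [← Ideal.Quotient.eq_zero_iff_mem, ← Ideal.mem_bot,
      ← Ideal.iInf_pow_eq_bot_of_isLocalRing _ hne, Ideal.mem_iInf]
    intro i
    have h := Ideal.mem_map_of_mem (Ideal.Quotient.mk Q) (hcon (i + 1) (Nat.le_add_left 1 i))
    rw [Ideal.map_sup, Ideal.map_quotient_self, bot_sup_eq, Ideal.map_pow] at h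
    exact Ideal.pow_le_pow_right (Nat.le_succ i) h
  obtain ⟨a, b, ha, hb, hab, hgen⟩ := exists_approx e he hu n
  set Da := KaehlerDifferential.D Λ O a with hDa
  set Db := KaehlerDifferential.D Λ O b with hDb
  have hP : ∀ P : MvPolynomial (Fin 2) Λ,
      KaehlerDifferential.D Λ O (MvPolynomial.aeval ![a, b] P) ∈ Submodule.span O {Da, Db} := fun P => by
    induction P using MvPolynomial.induction_on with
    | C c => rw [MvPolynomial.aeval_C, Derivation.map_algebraMap]; exact zero_mem _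
    | add p q hp hq => rw [map_add, map_add]; exact add_mem hp hq
    | mul_X p i hp =>
      rw [map_mul, Derivation.leibniz, MvPolynomial.aeval_X]
      refine add_mem (Submodule.smul_mem _ _ (Submodule.subset_span ?_)) (Submodule.smul_mem _ _ hp)
      fin_cases i <;> simp [hDa, hDb]
  have htop : Submodule.span O {Da, Db} = ⊤ := by
    refine top_le_iff.1 (Submodule.le_of_le_smul_of_le_jacobson_bot (I := maximalIdeal O) Module.Finite.fg_top
      (maximalIdeal_le_jacobson ⊥) ?_)
    rw [← KaehlerDifferential.span_range_derivation Λ O, Submodule.span_le]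
    rintro _ ⟨z, rfl⟩
    obtain ⟨P, hPz⟩ := hgen z
    have h1 := D_mem_pow (Λ := Λ) n _ hPz
    rw [map_sub] at h1
    rw [SetLike.mem_coe, ← sub_add_cancel (KaehlerDifferential.D Λ O z)
      (KaehlerDifferential.D Λ O (MvPolynomial.aeval ![a, b] P)), KaehlerDifferential.span_range_derivation]
    refine Submodule.add_mem _ (Submodule.mem_sup_right ?_) (Submodule.mem_sup_left (hP P))
    exact Submodule.smul_mono_left (Ideal.pow_le_self (by omega)) h1
  obtain ⟨ε₁, hε₁, ε₂, hε₂, hrel⟩ : ∃ ε₁ ∈ maximalIdeal O ^ n, ∃ ε₂ ∈ maximalIdeal O ^ n,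
      ε₁ • Da + ε₂ • Db = KaehlerDifferential.D Λ O (a * b - algebraMap Λ O u) := by
    have h1 := D_mem_pow (Λ := Λ) n _ hab
    generalize KaehlerDifferential.D Λ O (a * b - algebraMap Λ O u) = w at h1
    refine Submodule.smul_induction_on h1 (fun r hr w _ => ?_) (fun x y hx hy => ?_)
    · obtain ⟨c, d, hcd⟩ := Submodule.mem_span_pair.1 (show w ∈ Submodule.span O {Da, Db} from htop ▸ trivial)
      exact ⟨r * c, Ideal.mul_mem_right _ _ hr, r * d, Ideal.mul_mem_right _ _ hr, by
        rw [← hcd, smul_add, smul_smul, smul_smul]⟩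
    · obtain ⟨c, hc, d, hd, rfl⟩ := hx
      obtain ⟨c', hc', d', hd', rfl⟩ := hy
      exact ⟨c + c', add_mem hc hc', d + d', add_mem hd hd', by rw [add_smul, add_smul]; abel⟩
  rw [map_sub, Derivation.map_algebraMap, sub_zero, Derivation.leibniz, ← hDa, ← hDb] at hrel
  have hrel' : (b - ε₁) • Da + (a - ε₂) • Db = 0 := by
    rw [sub_smul, sub_smul]
    rw [← sub_eq_zero.2 hrel.symm]
    abel
  let M := KaehlerDifferential.map Λ Λ O T
  have hT : Submodule.span T {M Da, M Db} = ⊤ := by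
    refine top_le_iff.1 ?_
    rw [← KaehlerDifferential.span_range_derivation Λ T, Submodule.span_le]
    rintro _ ⟨t, rfl⟩
    obtain ⟨z, s, rfl⟩ := IsLocalization.exists_mk'_eq Q.primeCompl t
    have hD : ∀ z : O, KaehlerDifferential.D Λ T (algebraMap O T z) ∈ Submodule.span T {M Da, M Db} := fun z => by
      rw [← KaehlerDifferential.map_D Λ Λ O T]
      obtain ⟨c, d, hcd⟩ := Submodule.mem_span_pair.1
        (show KaehlerDifferential.D Λ O z ∈ Submodule.span O {Da, Db} from htop ▸ trivial)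
      rw [← hcd, map_add, map_smul, map_smul, ← algebraMap_smul T c, ← algebraMap_smul T d]
      exact Submodule.mem_span_pair.2 ⟨_, _, rfl⟩
    have hs : IsUnit (algebraMap O T s) := IsLocalization.map_units T s
    have h1 := congrArg (KaehlerDifferential.D Λ T) (IsLocalization.mk'_spec T z s)
    rw [Derivation.leibniz] at h1
    have h2 : algebraMap O T s • KaehlerDifferential.D Λ T (IsLocalization.mk' T z s) ∈
        Submodule.span T {M Da, M Db} := by
      rw [show algebraMap O T s • KaehlerDifferential.D Λ T (IsLocalization.mk' T z s) =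
        KaehlerDifferential.D Λ T (algebraMap O T z) -
          IsLocalization.mk' T z s • KaehlerDifferential.D Λ T (algebraMap O T s) by rw [← h1]; abel]
      exact sub_mem (hD z) (Submodule.smul_mem _ _ (hD s))
    exact (Submodule.smul_mem_iff_of_isUnit _ hs).1 h2
  have hrelT : algebraMap O T (b - ε₁) • M Da + algebraMap O T (a - ε₂) • M Db = 0 := by
    have h := congrArg M hrel'
    rw [map_add, map_smul, map_smul, map_zero] at h
    rw [algebraMap_smul, algebraMap_smul]
    exact h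
  have fin : ∀ (c d : O) (x y : Ω[T⁄Λ]), c ∉ Q → algebraMap O T c • x + algebraMap O T d • y = 0 →
      Submodule.span T {x, y} = ⊤ → ∃ v : Fin 1 → Ω[T⁄Λ], Submodule.span T (Set.range v) = ⊤ := by
    intro c d x y hc hcd hxy
    refine ⟨fun _ => y, top_le_iff.1 (hxy ▸ Submodule.span_le.2 ?_)⟩
    rw [Set.range_const]
    rintro _ (rfl | rfl)
    · refine (Submodule.smul_mem_iff_of_isUnit _ (IsLocalization.map_units T (⟨c, hc⟩ : Q.primeCompl))).1 ?_
      rw [eq_neg_of_add_eq_zero_left hcd]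
      exact neg_mem (Submodule.smul_mem _ _ (Submodule.subset_span rfl))
    · exact Submodule.subset_span rfl
  by_cases hc : b - ε₁ ∈ Q
  · refine fin (a - ε₂) (b - ε₁) (M Db) (M Da) (fun hd => hn ?_) (by rw [add_comm]; exact hrelT)
      (by rw [Set.pair_comm]; exact hT)
    have hq : (a - ε₂) * (b - ε₁) ∈ Q := Ideal.mul_mem_left _ _ hc
    have h3 : algebraMap Λ O u =
        (a - ε₂) * (b - ε₁) + (a * ε₁ + ε₂ * b - ε₂ * ε₁ - (a * b - algebraMap Λ O u)) := by ring
    rw [h3]
    refine add_mem (Ideal.mem_sup_left hq) (Ideal.mem_sup_right (sub_mem (sub_mem (add_mem ?_ ?_) ?_) ?_))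
    exacts [Ideal.mul_mem_left _ _ hε₁, Ideal.mul_mem_right _ _ hε₂, Ideal.mul_mem_right _ _ hε₂,
      Ideal.pow_le_pow_right (Nat.le_succ n) hab]
  · exact fin (b - ε₁) (a - ε₂) (M Da) (M Db) hc hrelT hT

variable [IsLocalRing Λ] [IsNoetherianRing Λ]

include e he hu in
/-- The reduction modulo the maximal ideal of the base has no socle. -/
theorem socle_le {z : O} (hz : ∀ w ∈ maximalIdeal O, w * z ∈ (maximalIdeal Λ).map (algebraMap Λ O)) :
    z ∈ (maximalIdeal Λ).map (algebraMap Λ O) := by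
  classical
  set I := (maximalIdeal Λ).map (algebraMap Λ O) with hI
  haveI : Module.FaithfullyFlat O Oh :=
    RegLocal.faithfullyFlat_completion O _ (maximalIdeal.isMaximal O).ne_top
  rw [← Ideal.comap_map_eq_self_of_faithfullyFlat (B := Oh) I, Ideal.mem_comap]
  set N : Ideal (MvPowerSeries (Fin 2) Λ) := Ideal.span {MvPowerSeries.X 0 * MvPowerSeries.X 1 - MvPowerSeries.C u} with hN
  let k := ResidueField Λ
  let π : MvPowerSeries (Fin 2) Λ →+* MvPowerSeries (Fin 2) k := MvPowerSeries.map (residue Λ)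
  let p : MvPowerSeries (Fin 2) k := MvPowerSeries.X 0 * MvPowerSeries.X 1
  have hu' : residue Λ u = 0 := by rwa [residue_eq_zero_iff, mem_maximalIdeal, mem_nonunits_iff]
  let πB : Node Λ u →+* MvPowerSeries (Fin 2) k ⧸ Ideal.span {p} :=
    Ideal.Quotient.lift _ ((Ideal.Quotient.mk _).comp π) (fun a ha => by
      obtain ⟨c, rfl⟩ := Ideal.mem_span_singleton.1 ha
      rw [RingHom.comp_apply, Ideal.Quotient.eq_zero_iff_mem, map_mul, map_sub, map_mul, MvPowerSeries.map_X,
        MvPowerSeries.map_X, MvPowerSeries.map_C, hu', map_zero, sub_zero]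
      exact Ideal.mul_mem_right _ _ (Ideal.subset_span rfl))
  let ψ : Oh →+* MvPowerSeries (Fin 2) k ⧸ Ideal.span {p} := πB.comp e.toRingHom
  have hψI : I.map (algebraMap O Oh) ≤ RingHom.ker ψ := by
    rw [hI, Ideal.map_map, Ideal.map_le_iff_le_comap]
    intro c hc
    show πB (e (algebraMap O Oh (algebraMap Λ O c))) = 0
    rw [he]
    show Ideal.Quotient.mk _ (MvPowerSeries.map (residue Λ) (MvPowerSeries.C c)) = 0
    rw [MvPowerSeries.map_C, (residue_eq_zero_iff c).2 hc, map_zero, map_zero]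
  have hker : RingHom.ker ψ ≤ I.map (algebraMap O Oh) := by
    intro y hy
    obtain ⟨G, hG⟩ := Ideal.Quotient.mk_surjective (e y)
    have hy' : π G ∈ Ideal.span {p} := by
      have : πB (e y) = 0 := hy
      rw [← hG] at this
      exact Ideal.Quotient.eq_zero_iff_mem.1 this
    obtain ⟨h, hh⟩ := Ideal.mem_span_singleton.1 hy'
    obtain ⟨H, rfl⟩ : ∃ H, π H = h := by
      choose c hc using fun d => residue_surjective (R := Λ) (MvPowerSeries.coeff d h)
      exact ⟨fun d => c d, MvPowerSeries.ext fun d => (MvPowerSeries.coeff_map _ _ _).trans (hc d)⟩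
    have hsub : G - (MvPowerSeries.X 0 * MvPowerSeries.X 1 - MvPowerSeries.C u) * H ∈
        (maximalIdeal Λ).map (MvPowerSeries.C (σ := Fin 2) (R := Λ)) := by
      refine mem_map_C (IsNoetherian.noetherian _) _ fun d => ?_
      rw [← residue_eq_zero_iff, ← MvPowerSeries.coeff_map]
      have h0 : π (G - (MvPowerSeries.X 0 * MvPowerSeries.X 1 - MvPowerSeries.C u) * H) = 0 := by
        rw [map_sub, map_mul, map_sub, map_mul, MvPowerSeries.map_X, MvPowerSeries.map_X, MvPowerSeries.map_C,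
          hu', map_zero, sub_zero, hh, sub_self]
      show MvPowerSeries.coeff d (π _) = 0
      rw [h0, map_zero]
    have h2 := Ideal.mem_map_of_mem ((e.symm.toRingHom.comp (Ideal.Quotient.mk N))) hsub
    rw [Ideal.map_map] at h2
    have h3 : (e.symm.toRingHom.comp (Ideal.Quotient.mk N)) (G - (MvPowerSeries.X 0 * MvPowerSeries.X 1 - MvPowerSeries.C u) * H) = y := by
      show e.symm (Ideal.Quotient.mk N _) = y
      rw [map_sub, Ideal.Quotient.eq_zero_iff_mem.2 (Ideal.mul_mem_right H N (Ideal.subset_span rfl)), sub_zero,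
        hG, RingEquiv.symm_apply_apply]
    rw [h3] at h2
    rw [hI, Ideal.map_map]
    have h4 : (e.symm.toRingHom.comp (Ideal.Quotient.mk N)).comp MvPowerSeries.C =
        (algebraMap O Oh).comp (algebraMap Λ O) := RingHom.ext fun c => by
      show e.symm (Ideal.Quotient.mk N (MvPowerSeries.C c)) = _
      rw [← he, RingEquiv.symm_apply_apply]
      rfl
    rwa [h4] at h2
  refine hker ?_
  have hxi : ∀ i, ψ (e.symm (Ideal.Quotient.mk _ (MvPowerSeries.X i))) * ψ (algebraMap O Oh z) = 0 := fun i => by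
    rw [← map_mul]
    refine hψI ?_
    have h1 := symm_X_mem e hu i
    rw [AdicCompletion.maximalIdeal_eq_map] at h1
    have h2 := Ideal.mul_mem_mul h1 (Ideal.mem_map_of_mem (algebraMap O Oh) (Ideal.subset_span (Set.mem_singleton z)))
    rw [← Ideal.map_mul] at h2
    refine Ideal.map_mono ?_ h2
    rw [Ideal.mul_le]
    intro r hr s hs
    obtain ⟨t, rfl⟩ := Ideal.mem_span_singleton.1 hs
    rw [← mul_assoc]
    exact Ideal.mul_mem_right _ _ (hz r hr)
  rw [RingHom.mem_ker]
  obtain ⟨F, hF⟩ := Ideal.Quotient.mk_surjective (ψ (algebraMap O Oh z))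
  have hX : ∀ i, ψ (e.symm (Ideal.Quotient.mk _ (MvPowerSeries.X i))) = Ideal.Quotient.mk _ (MvPowerSeries.X i) :=
    fun i => by
    show πB (e (e.symm _)) = _
    rw [RingEquiv.apply_symm_apply]
    show Ideal.Quotient.mk _ (MvPowerSeries.map (residue Λ) (MvPowerSeries.X i)) = _
    rw [MvPowerSeries.map_X]
  rw [← hF, Ideal.Quotient.eq_zero_iff_dvd]
  refine socle_zero ?_ ?_
  · have := hxi 0
    rw [hX, ← hF, ← map_mul, Ideal.Quotient.eq_zero_iff_dvd] at this
    exact this
  · have := hxi 1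
    rw [hX, ← hF, ← map_mul, Ideal.Quotient.eq_zero_iff_dvd] at this
    exact this

end Main

end Groth.Agent.NodeSmoothOffLib
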