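import Groth.Agent.NodeSmoothOffLib.Alg
import Groth.Agent.NodePtLib.FamCompl
import Groth.Agent.NodePtLib.MaxOpen
import Groth.Agent.TransvLib.RelDim
import Groth.Agent.S8916
import Groth.Agent.S5090
import Groth.Prelude.Def_Coh

/-!
# Smoothness off the closed fibre of a family whose closed fibre has nodes deformed by a parameter
-/

set_option autoImplicit false
set_option backward.isDefEq.respectTransparency false
set_option backward.defeqAttrib.useBackward true
set_option linter.style.haveILetI false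

universe u

open CategoryTheory CategoryTheory.Limits AlgebraicGeometry IsLocalRing

noncomputable section

namespace Groth.Agent.NodeSmoothOffLib

variable {Λ : Type u} [CommRing Λ] {X : Scheme.{u}} (f : X ⟶ Spec (CommRingCat.of Λ))

/-- The action of the base on a local ring. -/
def str (x : X) : Λ →+* X.presheaf.stalk x :=
  ((X.presheaf.germ ⊤ x trivial).hom.comp (Coh.toGlobal f))

/-- The base in a local ring of its spectrum. -/
def toSt (s : Spec (CommRingCat.of Λ)) : Λ →+* (Spec (CommRingCat.of Λ)).presheaf.stalk s :=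
  (StructureSheaf.toStalk (CommRingCat.of Λ) s).hom

theorem baseAlg_comp_inv (x : X) :
    (JacLocusLib.baseAlg f x (W := ⊤) trivial).comp (Scheme.ΓSpecIso (CommRingCat.of Λ)).inv.hom = str f x := by
  rw [str, Coh.toGlobal, ← RingHom.comp_assoc, ← CommRingCat.hom_comp, JacLocusLib.baseAlg]
  refine congrArg (fun g => RingHom.comp g _) (congrArg CommRingCat.Hom.hom ?_)
  rw [Scheme.Hom.germ_stalkMap]
  rfl

theorem str_eq_stalkMap (x : X) : str f x = (f.stalkMap x).hom.comp (toSt (f x)) := by
  rw [← baseAlg_comp_inv, JacLocusLib.baseAlg, CommRingCat.hom_comp, RingHom.comp_assoc]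
  rfl

theorem toSt_maximal (s : Spec (CommRingCat.of Λ)) :
    maximalIdeal ((Spec (CommRingCat.of Λ)).presheaf.stalk s) = s.asIdeal.map (toSt s) := by
  letI : Algebra Λ ((Spec (CommRingCat.of Λ)).presheaf.stalk s) := StructureSheaf.stalkAlgebra _ s
  haveI : IsLocalization.AtPrime ((Spec (CommRingCat.of Λ)).presheaf.stalk s) s.asIdeal :=
    StructureSheaf.IsLocalization.to_stalk (CommRingCat.of Λ) s
  exact (IsLocalization.AtPrime.map_eq_maximalIdeal s.asIdeal ((Spec (CommRingCat.of Λ)).presheaf.stalk s)).symm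

theorem isUnit_str (x : X) (u : Λ) (hu : u ∉ (f x).asIdeal) : IsUnit (str f x u) := by
  rw [str_eq_stalkMap]
  letI : Algebra Λ ((Spec (CommRingCat.of Λ)).presheaf.stalk (f x)) := StructureSheaf.stalkAlgebra _ (f x)
  haveI : IsLocalization.AtPrime ((Spec (CommRingCat.of Λ)).presheaf.stalk (f x)) ((f x)).asIdeal :=
    StructureSheaf.IsLocalization.to_stalk (CommRingCat.of Λ) (f x)
  exact (IsLocalization.map_units ((Spec (CommRingCat.of Λ)).presheaf.stalk (f x))
    (⟨u, hu⟩ : (f x).asIdeal.primeCompl)).map (f.stalkMap x).hom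

section Local

variable [IsLocalRing Λ] [IsNoetherianRing Λ] {u : Λ} [IsLocallyNoetherian X]

/-- A point with completion `Λ[[x, y]]/(xy - u)` has positive depth in its fibre. -/
theorem depth_ne_zero {p : X} (hp : f.base p = closedPoint Λ) (hu : ¬ IsUnit u)
    (e : AdicCompletion (maximalIdeal (X.presheaf.stalk p)) (X.presheaf.stalk p) ≃+* Node Λ u)
    (he : ∀ c : Λ, e (algebraMap (X.presheaf.stalk p) _ (str f p c)) = Ideal.Quotient.mk _ (MvPowerSeries.C c))
    [LocallyOfFiniteType f] :
    LocCoh.depth ((f.fiber (f.base p)).presheaf.stalk (f.asFiber p))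
      ((f.fiber (f.base p)).presheaf.stalk (f.asFiber p)) ≠ 0 := by
  intro h0
  haveI : LocallyOfFiniteType (f.fiberToSpecResidueField (f.base p)) :=
    MorphismProperty.pullback_snd _ _ inferInstance
  haveI := LocallyOfFiniteType.isLocallyNoetherian (f.fiberToSpecResidueField (f.base p))
  obtain ⟨φ, hφ, hker, -⟩ := NodePtLib.FamCompl.exists_stalk_to_fibre f p
  letI : Algebra Λ (X.presheaf.stalk p) := (str f p).toAlgebra
  have hker' : RingHom.ker φ = (maximalIdeal Λ).map (algebraMap Λ (X.presheaf.stalk p)) := by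
    rw [hker, toSt_maximal, Ideal.map_map, ← str_eq_stalkMap]
    have h1 : (f p).asIdeal = maximalIdeal Λ := by
      rw [show f p = closedPoint Λ from hp]
      rfl
    rw [h1]
    rfl
  obtain ⟨hprime, c, hc⟩ := Depth.depth_self_eq_zero_iff.1 h0
  obtain ⟨k, hk⟩ : ∃ k : ℕ, ∀ w ∈ maximalIdeal ((f.fiber (f.base p)).presheaf.stalk (f.asFiber p)) ^ k, w * c = 0 := by
    obtain ⟨k, hk⟩ := Ideal.exists_pow_le_of_le_radical_of_fg (hc.le) (IsNoetherian.noetherian _)
    refine ⟨k, fun w hw => ?_⟩
    simpa [Submodule.mem_colon_singleton] using hk hw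
  have hne : c ≠ 0 := fun h => hprime.ne_top (by
    rw [hc, h, Ideal.eq_top_iff_one]
    exact Ideal.le_radical (Submodule.mem_colon_singleton.2 (by simp)))
  obtain ⟨z, rfl⟩ := hφ c
  have hmap : ∀ w ∈ maximalIdeal (X.presheaf.stalk p), φ w ∈ maximalIdeal ((f.fiber (f.base p)).presheaf.stalk (f.asFiber p)) := fun w hw => by
    rw [mem_maximalIdeal, mem_nonunits_iff]
    intro hun
    obtain ⟨v, hv⟩ := isUnit_iff_exists_inv.1 hun
    obtain ⟨v, rfl⟩ := hφ v
    have h1 : w * v - 1 ∈ RingHom.ker φ := by rw [RingHom.mem_ker, map_sub, map_mul, hv, map_one, sub_self]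
    have h2 : w * v - 1 ∈ maximalIdeal (X.presheaf.stalk p) := by
      refine le_maximalIdeal (fun ht => ?_) h1
      exact one_ne_zero (α := (f.fiber (f.base p)).presheaf.stalk (f.asFiber p))
        (by rw [← map_one φ, ← RingHom.mem_ker, ht]; trivial)
    have h3 : (1 : X.presheaf.stalk p) ∈ maximalIdeal (X.presheaf.stalk p) := by
      simpa using sub_mem (Ideal.mul_mem_right v _ hw) h2
    exact (maximalIdeal.isMaximal (X.presheaf.stalk p)).ne_top ((Ideal.eq_top_iff_one _).2 h3)
  have key : ∀ (k : ℕ) (z : X.presheaf.stalk p), (∀ w ∈ maximalIdeal (X.presheaf.stalk p) ^ k,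
      w * z ∈ RingHom.ker φ) → z ∈ RingHom.ker φ := by
    intro k
    induction k with
    | zero => intro z hz; simpa using hz 1 (by simp)
    | succ k ih =>
      intro z hz
      refine ih z fun w hw => ?_
      rw [hker']
      refine socle_le e he hu fun v hv => ?_
      rw [← hker', ← mul_assoc]
      exact hz _ (by rw [pow_succ']; exact Ideal.mul_mem_mul hv hw)
  refine hne (RingHom.mem_ker.1 (key k z fun w hw => ?_))
  rw [RingHom.mem_ker, map_mul]
  refine hk _ ?_
  have h1 : (maximalIdeal (X.presheaf.stalk p)).map φ ≤ maximalIdeal ((f.fiber (f.base p)).presheaf.stalk (f.asFiber p)) := Ideal.map_le_iff_le_comap.2 hmap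
  exact Ideal.pow_right_mono h1 k (Ideal.map_pow φ _ k ▸ Ideal.mem_map_of_mem φ hw)

/-- The generalisations of such a point away from the closed fibre need one differential. -/
theorem exists_span {p q : X} (hqp : q ⤳ p) (hu : ¬ IsUnit u) (huq : u ∉ (f q).asIdeal)
    (e : AdicCompletion (maximalIdeal (X.presheaf.stalk p)) (X.presheaf.stalk p) ≃+* Node Λ u)
    (he : ∀ c : Λ, e (algebraMap (X.presheaf.stalk p) _ (str f p c)) = Ideal.Quotient.mk _ (MvPowerSeries.C c))
    [LocallyOfFiniteType f] :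
    letI := (JacLocusLib.baseAlg f q (W := ⊤) trivial).toAlgebra
    ∃ g : Fin 1 → Ω[X.presheaf.stalk q⁄Γ(Spec (CommRingCat.of Λ), ⊤)],
      Submodule.span (X.presheaf.stalk q) (Set.range g) = ⊤ := by
  let R := Γ(Spec (CommRingCat.of Λ), ⊤)
  let O := X.presheaf.stalk p
  let T := X.presheaf.stalk q
  letI : Algebra Λ R := (Scheme.ΓSpecIso (CommRingCat.of Λ)).inv.hom.toAlgebra
  letI : Algebra Λ O := (str f p).toAlgebra
  letI : Algebra Λ T := (str f q).toAlgebra
  letI : Algebra R O := (JacLocusLib.baseAlg f p (W := ⊤) trivial).toAlgebra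
  letI : Algebra R T := (JacLocusLib.baseAlg f q (W := ⊤) trivial).toAlgebra
  letI : Algebra O T := (X.presheaf.stalkSpecializes hqp).hom.toAlgebra
  haveI : IsScalarTower Λ R O := .of_algebraMap_eq' (baseAlg_comp_inv f p).symm
  haveI : IsScalarTower Λ R T := .of_algebraMap_eq' (baseAlg_comp_inv f q).symm
  haveI : IsScalarTower Λ O T := .of_algebraMap_eq' (by
    show str f q = (X.presheaf.stalkSpecializes hqp).hom.comp (str f p)
    rw [str, str, ← RingHom.comp_assoc, ← CommRingCat.hom_comp, TopCat.Presheaf.germ_stalkSpecializes])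
  haveI : Algebra.FormallyUnramified Λ R := Algebra.FormallyUnramified.of_surjective (Algebra.ofId Λ R)
    (Scheme.ΓSpecIso (CommRingCat.of Λ)).symm.commRingCatIsoToRingEquiv.surjective
  haveI : Module.Finite O Ω[O⁄R] := JacLocusLib.finite_kaehler f p (isAffineOpen_top _) (W := ⊤) trivial
  haveI : Module.Finite O Ω[O⁄Λ] := Module.Finite.equiv
    (LinearEquiv.ofBijective _ (JacLocusLib.kaehler_map_bijective (A := Λ) (A' := R) (B := O))).symm
  let Q : Ideal O := (maximalIdeal T).comap (algebraMap O T)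
  haveI : IsLocalization.AtPrime T Q := Groth.Agent.S5090.isLocalization_stalkSpecializes hqp
  have huQ : algebraMap Λ O u ∉ Q := fun h => by
    rw [Ideal.mem_comap, ← IsScalarTower.algebraMap_apply, mem_maximalIdeal, mem_nonunits_iff] at h
    exact h (isUnit_str f q u huq)
  obtain ⟨v, hv⟩ := exists_span_one e he hu Q huQ (T := T)
  exact ⟨_, JacLocusLib.span_transfer (R' := R) (T' := T) Function.surjective_id v hv⟩

end Local

/-- A smooth morphism with one-dimensional fibre at a point is smooth of relative dimension one nearby. -/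
theorem exists_relDim_one {Y : Scheme.{u}} (g : X ⟶ Y) [LocallyOfFiniteType g] {x : X}
    (hdim : FlatMor.fibreDimAt g x = 1) {U : X.Opens} (hxU : x ∈ U) [Smooth (U.ι ≫ g)] :
    ∃ W : X.Opens, x ∈ W ∧ SmoothOfRelativeDimension 1 (W.ι ≫ g) := by
  obtain ⟨V, hV, W, hW, hxW, eW, hstd⟩ := Smooth.exists_isStandardSmooth (U.ι ≫ g) ⟨x, hxU⟩
  have hW' : IsAffineOpen (U.ι ''ᵁ W) := hW.image_of_isOpenImmersion _
  have e : U.ι ''ᵁ W ≤ g ⁻¹ᵁ V := (U.ι.image_mono eW).trans (by
    rw [Scheme.Hom.comp_preimage, Scheme.Hom.image_preimage_eq_opensRange_inf]; exact inf_le_right)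
  have hstd' : (g.appLE V (U.ι ''ᵁ W) e).hom.IsStandardSmooth := by
    rw [Scheme.Hom.comp_appLE, Scheme.Opens.ι_appLE] at hstd
    simp only [Scheme.Hom.appLE]
    exact hstd
  have hx' : x ∈ U.ι ''ᵁ W := ⟨⟨x, hxU⟩, hxW, rfl⟩
  algebraize [(g.appLE V (U.ι ''ᵁ W) e).hom]
  obtain ⟨ι, σ, _, _, ⟨Pr⟩⟩ := (‹Algebra.IsStandardSmooth Γ(Y, V) Γ(X, U.ι ''ᵁ W)›).out
  have hd : (g.appLE V (U.ι ''ᵁ W) e).hom.IsStandardSmoothOfRelativeDimension Pr.dimension :=
    Algebra.IsStandardSmoothOfRelativeDimension.mk ⟨ι, σ, inferInstance, inferInstance, Pr, rfl⟩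
  have h1 := EtAlgEasy.OmegaSmooth.fibreDimAt_of_std g hV hW' e _ hd hx'
  rw [hdim] at h1
  have h2 : Pr.dimension = 1 := by exact_mod_cast h1.symm
  rw [h2] at hd
  haveI := TransvLib.relDim_chart g hV hW' e 1 hd
  refine ⟨U.ι ''ᵁ W, hx', ?_⟩
  have := smoothOfRelativeDimension_comp (n := 1) (m := 0) (g.resLE V (U.ι ''ᵁ W) e) V.ι
  rwa [Scheme.Hom.resLE_comp_ι] at this

theorem fibreDimAt_eq_one {Y : Scheme.{u}} (g : X ⟶ Y) [LocallyOfFiniteType g] {x : X} {U : X.Opens}
    (hxU : x ∈ U) [SmoothOfRelativeDimension 1 (U.ι ≫ g)] : FlatMor.fibreDimAt g x = 1 := by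
  obtain ⟨V, hV, W, hW, hxW, eW, hstd⟩ :=
    SmoothOfRelativeDimension.exists_isStandardSmoothOfRelativeDimension (n := 1) (f := U.ι ≫ g) ⟨x, hxU⟩
  have e : U.ι ''ᵁ W ≤ g ⁻¹ᵁ V := (U.ι.image_mono eW).trans (by
    rw [Scheme.Hom.comp_preimage, Scheme.Hom.image_preimage_eq_opensRange_inf]; exact inf_le_right)
  rw [Scheme.Hom.comp_appLE, Scheme.Opens.ι_appLE] at hstd
  exact_mod_cast EtAlgEasy.OmegaSmooth.fibreDimAt_of_std g hV (hW.image_of_isOpenImmersion U.ι) e 1
    (by simp only [Scheme.Hom.appLE]; exact hstd) (x := x) ⟨⟨x, hxU⟩, hxW, rfl⟩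

/-- The statement. -/
theorem main [IsLocalRing Λ] [IsNoetherianRing Λ] [IsLocallyNoetherian X] [IsProper f] [Flat f]
    (u : Λ) (hu : (Ideal.span {u}).radical = maximalIdeal Λ) (P : Finset X)
    (hP : ∀ p ∈ P, f.base p = closedPoint Λ)
    (hsm : ∀ q : X, f.base q = closedPoint Λ → q ∉ P → ∃ U : X.Opens, q ∈ U ∧ SmoothOfRelativeDimension 1 (U.ι ≫ f))
    (hnode : ∀ p ∈ P, ∃ e : AdicCompletion (maximalIdeal (X.presheaf.stalk p)) (X.presheaf.stalk p) ≃+* Node Λ u,
      ∀ c : Λ, e (algebraMap (X.presheaf.stalk p) _ (str f p c)) = Ideal.Quotient.mk _ (MvPowerSeries.C c))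
    (q : X) (hq : f.base q ≠ closedPoint Λ) :
    ∃ U : X.Opens, q ∈ U ∧ SmoothOfRelativeDimension 1 (U.ι ≫ f) := by
  classical
  haveI : IsNoetherianRing (CommRingCat.of Λ) := inferInstanceAs (IsNoetherianRing Λ)
  haveI : LocallyOfFinitePresentation f := LocallyOfFinitePresentation.iff_locallyOfFiniteType.mpr inferInstance
  have hu' : ¬ IsUnit u := fun h => (maximalIdeal.isMaximal Λ).ne_top
    (by rw [← hu, Ideal.span_singleton_eq_top.2 h, Ideal.radical_top])
  have huq : u ∉ (f q).asIdeal := fun h => hq (PrimeSpectrum.ext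
    ((maximalIdeal.isMaximal Λ).eq_of_le (f q).isPrime.ne_top
      (hu ▸ (f q).isPrime.isRadical.radical_le_iff.2 ((Ideal.span_singleton_le_iff_mem _).2 h))).symm)
  obtain ⟨p, hqp, hp⟩ : ∃ p, q ⤳ p ∧ f.base p = closedPoint Λ := by
    have hc : IsClosed (f.base '' closure {q}) := f.isClosedMap _ isClosed_closure
    have : closedPoint Λ ∈ f.base '' closure {q} :=
      (specializes_closedPoint (f.base q)).mem_closed hc ⟨q, subset_closure rfl, rfl⟩
    obtain ⟨p, hp, hpf⟩ := this
    exact ⟨p, specializes_iff_mem_closure.2 hp, hpf⟩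
  by_cases hpP : p ∈ P
  case neg =>
    obtain ⟨U, hpU, hU⟩ := hsm p hp hpP
    exact ⟨U, hqp.mem_open U.2 hpU, hU⟩
  case pos =>
    have hlt : ∀ s, LocallyOfFiniteType (f.fiberToSpecResidueField s) := fun s =>
      MorphismProperty.pullback_snd _ _ inferInstance
    have hfp : ∀ s, LocallyOfFinitePresentation (f.fiberToSpecResidueField s) := fun s =>
      MorphismProperty.pullback_snd _ _ inferInstance
    have hclosed : ∀ x', f.base x' = closedPoint Λ →
        LocCoh.depth ((f.fiber (f.base x')).presheaf.stalk (f.asFiber x'))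
          ((f.fiber (f.base x')).presheaf.stalk (f.asFiber x')) = 0 → FibreDepth.clDim f x' = (1 : ℕ) := by
      intro x' hx' h0
      by_cases hxP : x' ∈ P
      · obtain ⟨e, he⟩ := hnode x' hxP
        exact absurd h0 (depth_ne_zero f hx' hu' e he)
      · obtain ⟨U, hxU, hU⟩ := hsm x' hx' hxP
        haveI := hlt (f.base x')
        haveI := LocallyOfFiniteType.isLocallyNoetherian (f.fiberToSpecResidueField (f.base x'))
        haveI := SmoothOfRelativeDimension.smooth 1 (U.ι ≫ f)
        haveI := NodePtLib.isReduced_of_goodPt f (x := x') (Or.inl ⟨U, hxU, inferInstance⟩)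
        have hgen := NodePtLib.gen_of_reduced_depth_zero (specializes_refl (f.asFiber x')) h0
        obtain ⟨a, t, ha, -, hloc, hh⟩ := DimFormulaLib.field_dims
          (k := (Spec (CommRingCat.of Λ)).residueField (f.base x')) (f.fiberToSpecResidueField (f.base x')) (f.asFiber x')
        rw [ASp.ringKrullDim_stalk_eq_zero hgen] at ha
        have ha0 : a = 0 := by exact_mod_cast ha.symm
        have h1 : FlatMor.fibreDimAt f x' = 1 := fibreDimAt_eq_one f hxU
        rw [FlatMor.fibreDimAt, hloc, ha0, zero_add] at h1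
        rw [FibreDepth.clDim, DimFormulaLib.topologicalKrullDim_closure_singleton, hh]
        have ht : t = 1 := by exact_mod_cast h1
        rw [ht]
        rfl
    have hall : ∀ x : X, x ∈ NodePtLib.dimLocus f := by
      have hopen := NodePtLib.isOpen_dimLocus f
      intro x
      have hc : IsClosed (f.base '' closure {x}) := f.isClosedMap _ isClosed_closure
      obtain ⟨p', hp', hpf⟩ := (specializes_closedPoint (f.base x)).mem_closed hc ⟨x, subset_closure rfl, rfl⟩
      refine (specializes_iff_mem_closure.2 hp').mem_open hopen ?_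
      intro x' _ hb h0
      exact ⟨1, Finset.mem_singleton_self 1, hclosed x' (hb.trans hpf) h0⟩
    obtain ⟨e, he⟩ := hnode p hpP
    have key : ∀ (s : Spec (CommRingCat.of Λ)) (z : f.fiber s),
        (letI := (JacLocusLib.baseAlg f (f.fiberι s z) (W := ⊤) trivial).toAlgebra
        ∃ g : Fin 1 → Ω[X.presheaf.stalk (f.fiberι s z)⁄Γ(Spec (CommRingCat.of Λ), ⊤)],
          Submodule.span (X.presheaf.stalk (f.fiberι s z)) (Set.range g) = ⊤) →
        (f.stalkMap (f.fiberι s z)).hom.FormallySmooth := by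
      intro s z hg
      haveI := hlt s
      haveI := hfp s
      haveI := LocallyOfFiniteType.isLocallyNoetherian (f.fiberToSpecResidueField s)
      rw [FlatLocus.mem_smoothLocus_iff_fibre f s z]
      refine ⟨Flat.stalkMap f _, JacLocusLib.mem_smoothLocus_of_span (K := (Spec (CommRingCat.of Λ)).residueField s)
        (f.fiberToSpecResidueField s) z 1 ?_ (S8916.fibre_span f s z 1 (W := ⊤) trivial hg)⟩
      obtain ⟨Z, hZ, hzZ⟩ : ∃ Z ∈ irreducibleComponents ↥(f.fiber s), z ∈ Z :=
        ⟨irreducibleComponent z, irreducibleComponent_mem_irreducibleComponents z, mem_irreducibleComponent⟩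
      obtain ⟨η, hη, hmax⟩ := DimFormulaLib.exists_generic_of_mem_irreducibleComponents hZ
      have hηz : η ⤳ z := specializes_iff_mem_closure.2 (hη.symm ▸ hzZ)
      obtain ⟨hb, hQ⟩ := FibreDepth.fib_transfer f s z fun s w => ∀ z' : f.fiber s, w ∈ closure {z'} →
        LocCoh.depth ((f.fiber s).presheaf.stalk z') ((f.fiber s).presheaf.stalk z') = 0 →
          topologicalKrullDim ↥(closure ({z'} : Set ↥(f.fiber s))) = 1
      have h1 := hQ.1 ((NodePtLib.mem_dimLocus_iff f _).1 (hall _)) η (specializes_iff_mem_closure.1 hηz)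
        (NodePtLib.depth_zero_of_gen hmax)
      refine le_trans ?_ (DimFormulaLib.localDim_le_of_specializes hηz)
      obtain ⟨a, t, -, -, hloc, hh⟩ := DimFormulaLib.field_dims
        (k := (Spec (CommRingCat.of Λ)).residueField s) (f.fiberToSpecResidueField s) η
      rw [DimFormulaLib.topologicalKrullDim_closure_singleton, hh] at h1
      have ht : t = 1 := by exact_mod_cast h1
      rw [hloc, ht]
      exact_mod_cast Nat.le_add_left 1 a
    have key' : ∀ (y : X), f.fiberι (f q) (f.asFiber q) = y →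
        (letI := (JacLocusLib.baseAlg f y (W := ⊤) trivial).toAlgebra
        ∃ g : Fin 1 → Ω[X.presheaf.stalk y⁄Γ(Spec (CommRingCat.of Λ), ⊤)],
          Submodule.span (X.presheaf.stalk y) (Set.range g) = ⊤) →
        (f.stalkMap y).hom.FormallySmooth := by
      rintro y rfl
      exact key _ _
    have hspan := exists_span f hqp hu' huq e he
    have hsmq : q ∈ f.smoothLocus := key' q (f.fiberι_asFiber q) hspan
    obtain ⟨U, hqU, hU⟩ := (FlatLocus.exists_smooth_nhd_iff f q).2 hsmq
    refine exists_relDim_one f ?_ hqU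
    obtain ⟨m, hm, hr⟩ := JacLocusLib.finrank_eq_of_mem_smoothLocus f hsmq (isAffineOpen_top _) (W := ⊤) trivial
    letI := (JacLocusLib.baseAlg f q (W := ⊤) trivial).toAlgebra
    haveI := JacLocusLib.finite_kaehler f q (isAffineOpen_top _) (W := ⊤) trivial
    have hle : m ≤ 1 := hr ▸ (JacLocusLib.exists_span_iff_finrank_le _ 1).1 hspan
    obtain ⟨Z, hZ, hzZ⟩ : ∃ Z ∈ irreducibleComponents ↥(f.fiber (f q)), f.asFiber q ∈ Z :=
      ⟨irreducibleComponent (f.asFiber q), irreducibleComponent_mem_irreducibleComponents _, mem_irreducibleComponent⟩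
    obtain ⟨η, hη, hmax⟩ := DimFormulaLib.exists_generic_of_mem_irreducibleComponents hZ
    haveI := hlt (f q)
    haveI := LocallyOfFiniteType.isLocallyNoetherian (f.fiberToSpecResidueField (f q))
    have hηz : η ⤳ f.asFiber q := specializes_iff_mem_closure.2 (hη.symm ▸ hzZ)
    have h1 := (NodePtLib.mem_dimLocus_iff f q).1 (hall q) η (specializes_iff_mem_closure.1 hηz)
      (NodePtLib.depth_zero_of_gen hmax)
    obtain ⟨a, t, -, -, hloc, hh⟩ := DimFormulaLib.field_dims
      (k := (Spec (CommRingCat.of Λ)).residueField (f q)) (f.fiberToSpecResidueField (f q)) η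
    rw [DimFormulaLib.topologicalKrullDim_closure_singleton, hh] at h1
    have ht : t = 1 := by exact_mod_cast h1
    have h2 : ((a + t : ℕ) : WithBot ℕ∞) ≤ (m : WithBot ℕ∞) := by
      rw [← hloc, ← hm]
      exact DimFormulaLib.localDim_le_of_specializes hηz
    have h3 : a + t ≤ m := by exact_mod_cast h2
    rw [hm, show m = 1 by omega]
    rfl

end Groth.Agent.NodeSmoothOffLib
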